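import Groth.Agent.ComodLib.StableOrbit
import Groth.Agent.ComodLib.Rosenlicht
import Groth.Agent.ComodLib.Trig
import Groth.Prelude.Def_HopfRep
import Mathlib.GroupTheory.Solvable
import Mathlib.LinearAlgebra.Eigenspace.Triangularizable
import Mathlib.LinearAlgebra.Determinant

/-!
# The theorem of Lie and Kolchin
-/

universe u v

open TensorProduct WithConv
open scoped commutatorElement

namespace Groth.Agent.LieKolchin

open Groth.Agent.ComodLib

variable {k : Type u} [Field k] {A : Type v} [CommRing A] [HopfAlgebra k A]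

/-- Reading a map `G → G` given by an endomorphism of functions at a point. -/
noncomputable def ev (x : WithConv (A →ₐ[k] k)) : WithConv (A →ₐ[k] A) →* WithConv (A →ₐ[k] k) where
  toFun Φ := toConv (x.ofConv.comp Φ.ofConv)
  map_one' := WithConv.ofConv_injective (AlgHom.ext fun a => by
    show x.ofConv (algebraMap k A _) = _
    rw [AlgHom.commutes]
    rfl)
  map_mul' Φ Ψ := by
    show toConv (x.ofConv.comp (Φ * Ψ).ofConv) = _
    rw [AlgHom.comp_convMul_distrib, WithConv.toConv_ofConv]

theorem ev_id (x : WithConv (A →ₐ[k] k)) : ev x (toConv (AlgHom.id k A)) = x :=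
  WithConv.ofConv_injective (AlgHom.comp_id _)

theorem ev_const (x g : WithConv (A →ₐ[k] k)) : ev x (toConv ((Algebra.ofId k A).comp g.ofConv)) = g :=
  WithConv.ofConv_injective (AlgHom.ext fun a => by
    show x.ofConv (algebraMap k A (g.ofConv a)) = g.ofConv a
    rw [AlgHom.commutes]
    rfl)

/-- The sets of iterated commutators. -/
def S : ℕ → Set (WithConv (A →ₐ[k] k))
  | 0 => Set.univ
  | i + 1 => {z | ∃ x ∈ S i, ∃ y ∈ S i, ⁅x, y⁆ = z}

theorem one_mem : ∀ i, (1 : WithConv (A →ₐ[k] k)) ∈ S (k := k) (A := A) i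
  | 0 => trivial
  | i + 1 => ⟨1, one_mem i, 1, one_mem i, by rw [commutatorElement_one_left]⟩

theorem conj_mem : ∀ i (g x : WithConv (A →ₐ[k] k)), x ∈ S i → g⁻¹ * x * g ∈ S (k := k) (A := A) i
  | 0, _, _, _ => trivial
  | i + 1, g, _, ⟨x, hx, y, hy, rfl⟩ => ⟨_, conj_mem i g x hx, _, conj_mem i g y hy, by
      simp only [commutatorElement_def]; group⟩

theorem subset_derivedSeries : ∀ i, S (k := k) (A := A) i ⊆ derivedSeries (WithConv (A →ₐ[k] k)) i
  | 0 => fun _ _ => by simp
  | i + 1 => fun _ ⟨_, hx, _, hy, hz⟩ => hz ▸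
      Subgroup.commutator_mem_commutator (subset_derivedSeries i hx) (subset_derivedSeries i hy)

variable [IsAlgClosed k] [Algebra.FiniteType k A] [IsDomain A]

/-- A function with finitely many values on iterated commutators is constant there. -/
theorem eq_of_finite : ∀ (i : ℕ) (a : A), ((fun x : WithConv (A →ₐ[k] k) => x.ofConv a) '' S i).Finite →
    ∀ x ∈ S (k := k) (A := A) i, x.ofConv a = (1 : WithConv (A →ₐ[k] k)).ofConv a := by
  intro i
  induction i with
  | zero =>
    intro a hfin x _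
    classical
    have hz : ∏ c ∈ hfin.toFinset, (a - algebraMap k A c) = 0 := by
      by_contra hne
      obtain ⟨g, hg⟩ := exists_point_ne_zero (k := k) (a := ∏ c ∈ hfin.toFinset, (a - algebraMap k A c))
        (fun hn => hne hn.eq_zero)
      refine hg ?_
      rw [map_prod]
      refine Finset.prod_eq_zero (hfin.mem_toFinset.mpr ⟨toConv g, trivial, rfl⟩) ?_
      rw [map_sub, AlgHom.commutes]
      exact sub_self _
    obtain ⟨c, -, hc⟩ := Finset.prod_eq_zero_iff.mp hz
    rw [sub_eq_zero] at hc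
    rw [hc, AlgHom.commutes, AlgHom.commutes]
  | succ i ih =>
    rintro a hfin _ ⟨x, hx, y, hy, rfl⟩
    let W : WithConv (A →ₐ[k] A) := ⁅toConv (AlgHom.id k A), toConv ((Algebra.ofId k A).comp y.ofConv)⁆
    have hW : ∀ z : WithConv (A →ₐ[k] k), ev z W = ⁅z, y⁆ := fun z => by
      rw [map_commutatorElement, ev_id, ev_const]
    have hev : ∀ z : WithConv (A →ₐ[k] k), z.ofConv (W.ofConv a) = ⁅z, y⁆.ofConv a := fun z => by
      rw [← hW]; rfl
    have h := ih (W.ofConv a) (hfin.subset fun c ⟨z, hz, hc⟩ =>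
      ⟨⁅z, y⁆, ⟨z, hz, y, hy, rfl⟩, (hev z).symm.trans hc⟩) x hx
    rw [hev, hev, commutatorElement_one_left] at h
    exact h

variable {V : Type v} [AddCommGroup V] [Module k V] [HopfRep.Comod k A V]

variable (k A V) in
/-- The representation of the group of points. -/
noncomputable def rho : WithConv (A →ₐ[k] k) →* Module.End k V where
  toFun g := HopfRep.Comod.act k A V g.ofConv
  map_one' := LinearMap.ext fun v => actF_counit v
  map_mul' g h := LinearMap.ext fun v => actF_convMul (toConv g.ofConv.toLinearMap) (toConv h.ofConv.toLinearMap) v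

/-- Matrix coefficients are functions. -/
theorem exists_coef (φ : Module.Dual k V) (v : V) :
    ∃ a : A, ∀ g : WithConv (A →ₐ[k] k), g.ofConv a = φ (rho k A V g v) := by
  refine ⟨TensorProduct.lid k A (φ.rTensor A (HopfRep.Comod.coact (k := k) (A := A) v)), fun g => ?_⟩
  show _ = φ (slice g.ofConv.toLinearMap (HopfRep.Comod.coact (k := k) (A := A) v))
  induction HopfRep.Comod.coact (k := k) (A := A) v using TensorProduct.induction_on with
  | zero => simp
  | add p q hp hq => simp only [map_add, hp, hq]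
  | tmul p q => simp [mul_comm]

omit [IsAlgClosed k] [Algebra.FiniteType k A] [IsDomain A] [HopfRep.Comod k A V] in
/-- Commuting endomorphisms have a common eigenvector. -/
theorem exists_common_eigen [IsAlgClosed k] [Module.Finite k V] [Nontrivial V] {ι : Type*} (T : ι → Module.End k V)
    (hT : ∀ i j, T i * T j = T j * T i) : ∃ w : V, w ≠ 0 ∧ ∀ i, ∃ c : k, T i w = c • w := by
  classical
  obtain ⟨W, ⟨hW, hWinv⟩, hmin⟩ := WellFounded.has_min (wellFounded_lt (α := Submodule k V))
    {W | W ≠ ⊥ ∧ ∀ i, ∀ w ∈ W, T i w ∈ W} ⟨⊤, top_ne_bot, fun _ _ _ => trivial⟩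
  obtain ⟨w, hw, hw0⟩ := (Submodule.ne_bot_iff W).mp hW
  refine ⟨w, hw0, fun i => ?_⟩
  haveI : Nontrivial W := Submodule.nontrivial_iff_ne_bot.mpr hW
  obtain ⟨c, hc⟩ := Module.End.exists_eigenvalue ((T i).restrict (hWinv i))
  obtain ⟨u, hu⟩ := hc.exists_hasEigenvector
  refine ⟨c, ?_⟩
  have hne : W ⊓ Module.End.eigenspace (T i) c ≠ ⊥ := (Submodule.ne_bot_iff _).mpr ⟨u,
    ⟨u.2, Module.End.mem_eigenspace_iff.mpr (congrArg Subtype.val hu.apply_eq_smul)⟩, fun h => hu.2 (Subtype.ext h)⟩
  have heq : W ⊓ Module.End.eigenspace (T i) c = W := by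
    refine eq_of_le_of_not_lt inf_le_left fun hlt => hmin _ ⟨hne, fun j z hz => ⟨hWinv j z hz.1, ?_⟩⟩ hlt
    show T j z ∈ Module.End.eigenspace (T i) c
    rw [Module.End.mem_eigenspace_iff, ← Module.End.mul_apply, hT, Module.End.mul_apply,
      Module.End.mem_eigenspace_iff.mp hz.2, map_smul]
  exact Module.End.mem_eigenspace_iff.mp (heq.ge hw).2

variable [Module.Finite k V] [Nontrivial V]

/-- If commutators act by scalars, they act trivially. -/
theorem rho_eq_one {i : ℕ} (h : ∀ s ∈ S (k := k) (A := A) (i + 1), ∃ c : k, rho k A V s = c • (1 : Module.End k V))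
    {s : WithConv (A →ₐ[k] k)} (hs : s ∈ S (i + 1)) : rho k A V s = 1 := by
  classical
  obtain ⟨v, hv⟩ := exists_ne (0 : V)
  obtain ⟨φ, hφ⟩ : ∃ φ : Module.Dual k V, φ v = 1 := by
    obtain ⟨ψ, hψ⟩ := Module.Projective.exists_dual_ne_zero k hv
    exact ⟨(ψ v)⁻¹ • ψ, inv_mul_cancel₀ hψ⟩
  obtain ⟨a, ha⟩ := exists_coef (A := A) φ v
  have hval : ∀ t, ∀ c : k, rho k A V t = c • (1 : Module.End k V) → t.ofConv a = c := fun t c hc => by
    rw [ha, hc, LinearMap.smul_apply, Module.End.one_apply, map_smul, hφ, smul_eq_mul, mul_one]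
  have hfin : ((fun x : WithConv (A →ₐ[k] k) => x.ofConv a) '' S (i + 1)).Finite := by
    refine Set.Finite.subset (Polynomial.nthRoots (Module.finrank k V) (1 : k)).toFinset.finite_toSet ?_
    rintro _ ⟨t, ⟨x, hx, y, hy, rfl⟩, rfl⟩
    obtain ⟨c, hc⟩ := h _ ⟨x, hx, y, hy, rfl⟩
    have hd : LinearMap.det (rho k A V ⁅x, y⁆) = 1 := by
      let D : WithConv (A →ₐ[k] k) →* k := LinearMap.det.comp (rho k A V)
      show D ⁅x, y⁆ = 1
      rw [← MonoidHom.coe_toHomUnits D, map_commutatorElement]
      simp [commutatorElement_def, mul_comm]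
    rw [hc, LinearMap.det_smul, map_one, mul_one] at hd
    show ⁅x, y⁆.ofConv a ∈ _
    rw [hval _ c hc, Finset.mem_coe, Multiset.mem_toFinset, Polynomial.mem_nthRoots Module.finrank_pos]
    exact hd
  obtain ⟨c, hc⟩ := h s hs
  have h1 := eq_of_finite (i + 1) a hfin s hs
  rw [hval s c hc, ha, map_one, Module.End.one_apply, hφ] at h1
  rw [hc, h1, one_smul]

variable (hsimple : HopfRep.IsSimpleComod k A V)

include hsimple in
/-- The inductive step. -/
theorem scalar_step {i : ℕ} (h : ∀ s ∈ S (k := k) (A := A) (i + 1), ∃ c : k, rho k A V s = c • (1 : Module.End k V)) :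
    ∀ s ∈ S (k := k) (A := A) i, ∃ c : k, rho k A V s = c • (1 : Module.End k V) := by
  classical
  have hcomm : ∀ x y : S (k := k) (A := A) i, rho k A V x.1 * rho k A V y.1 = rho k A V y.1 * rho k A V x.1 := by
    intro x y
    have h1 := rho_eq_one h (s := ⁅x.1, y.1⁆) ⟨x.1, x.2, y.1, y.2, rfl⟩
    calc rho k A V x.1 * rho k A V y.1 = rho k A V (⁅x.1, y.1⁆ * (y.1 * x.1)) := by
          rw [← map_mul, commutatorElement_def]; congr 1; group
      _ = _ := by rw [map_mul, h1, one_mul, map_mul]
  obtain ⟨w, hw0, hw⟩ := exists_common_eigen (fun x : S (k := k) (A := A) i => rho k A V x.1) hcomm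
  choose lam hlam using hw
  intro s hs
  obtain ⟨φ, hφ⟩ : ∃ φ : Module.Dual k V, φ w = 1 := by
    obtain ⟨ψ, hψ⟩ := Module.Projective.exists_dual_ne_zero k hw0
    exact ⟨(ψ w)⁻¹ • ψ, inv_mul_cancel₀ hψ⟩
  have hconj : ∀ g, rho k A V s (rho k A V g w) = lam ⟨_, conj_mem i g s hs⟩ • rho k A V g w := fun g => by
    rw [← Module.End.mul_apply, ← map_mul, show s * g = g * (g⁻¹ * s * g) by group, map_mul, Module.End.mul_apply,
      hlam ⟨_, conj_mem i g s hs⟩, map_smul]
  have hg0 : ∀ g, rho k A V g w ≠ 0 := fun g h0 => hw0 (by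
    rw [← Module.End.one_apply (R := k) w, ← map_one (rho k A V), ← inv_mul_cancel g, map_mul, Module.End.mul_apply,
      h0, map_zero])
  obtain ⟨a, ha⟩ := exists_coef (A := A) φ w
  let Φ : WithConv (A →ₐ[k] A) := (toConv (AlgHom.id k A))⁻¹ * toConv ((Algebra.ofId k A).comp s.ofConv) *
    toConv (AlgHom.id k A)
  have hΦ : ∀ g : WithConv (A →ₐ[k] k), g.ofConv (Φ.ofConv a) = lam ⟨_, conj_mem i g s hs⟩ := fun g => by
    show (ev g Φ).ofConv a = _
    rw [map_mul, map_mul, map_inv, ev_id, ev_const, ha, hlam ⟨_, conj_mem i g s hs⟩, map_smul, hφ, smul_eq_mul, mul_one]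
  have hfin : ((fun x : WithConv (A →ₐ[k] k) => x.ofConv (Φ.ofConv a)) '' S 0).Finite := by
    refine Set.Finite.subset (Module.End.finite_hasEigenvalue (rho k A V s)) ?_
    rintro _ ⟨g, -, rfl⟩
    exact Module.End.hasEigenvalue_of_hasEigenvector (x := rho k A V g w)
      ⟨Module.End.mem_eigenspace_iff.mpr (by rw [hconj g]; simp only [hΦ]), hg0 g⟩
  set c := (1 : WithConv (A →ₐ[k] k)).ofConv (Φ.ofConv a)
  refine ⟨c, ?_⟩
  have hspan : Submodule.span k (Set.range fun g => rho k A V g w) = ⊤ := by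
    refine (hsimple.2 _ (isSubcomod_of_forall_act fun g u hu => ?_)).resolve_left fun h0 => hg0 1 ?_
    · induction hu using Submodule.span_induction with
      | mem z hz =>
        obtain ⟨g', rfl⟩ := hz
        refine Submodule.subset_span ⟨toConv g * g', ?_⟩
        show rho k A V (toConv g * g') w = _
        rw [map_mul]
        rfl
      | zero => rw [map_zero]; exact Submodule.zero_mem _
      | add a b _ _ ha hb => rw [map_add]; exact Submodule.add_mem _ ha hb
      | smul r a _ ha => rw [map_smul]; exact Submodule.smul_mem _ r ha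
    · exact (Submodule.mem_bot k).mp (h0 ▸ Submodule.subset_span ⟨1, rfl⟩)
  refine LinearMap.ext_on hspan ?_
  rintro _ ⟨g, rfl⟩
  have hl : lam ⟨_, conj_mem i g s hs⟩ = c := (hΦ g).symm.trans (eq_of_finite 0 _ hfin g trivial)
  show rho k A V s (rho k A V g w) = _
  rw [hconj g, hl, LinearMap.smul_apply, Module.End.one_apply]

omit [IsAlgClosed k] [Algebra.FiniteType k A] [IsDomain A] [Module.Finite k V] [Nontrivial V] in
theorem finrank_one_of_scalar [IsAlgClosed k] [Algebra.FiniteType k A] [IsDomain A] [Module.Finite k V] [Nontrivial V]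
    (hsimple : HopfRep.IsSimpleComod k A V) [Group.IsSolvable (WithConv (A →ₐ[k] k))] : Module.finrank k V = 1 := by
  obtain ⟨n, hn⟩ := Group.IsSolvable.solvable (G := WithConv (A →ₐ[k] k))
  have hall : ∀ j, j ≤ n → ∀ s ∈ S (k := k) (A := A) (n - j), ∃ c : k, rho k A V s = c • (1 : Module.End k V) := by
    intro j
    induction j with
    | zero =>
      intro _ s hs
      have h1 : s ∈ derivedSeries (WithConv (A →ₐ[k] k)) n := subset_derivedSeries n hs
      rw [hn, Subgroup.mem_bot] at h1
      exact ⟨1, by rw [h1, map_one, one_smul]⟩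
    | succ j ih =>
      intro hj
      have h := ih (by omega)
      rw [show n - j = n - (j + 1) + 1 by omega] at h
      exact scalar_step hsimple h
  obtain ⟨v, hv⟩ := exists_ne (0 : V)
  have htop : Submodule.span k {v} = ⊤ := by
    refine (hsimple.2 _ (isSubcomod_of_forall_act fun g u hu => ?_)).resolve_left fun h => hv ?_
    · obtain ⟨c, hc⟩ := hall n le_rfl (toConv g) (by rw [Nat.sub_self]; trivial)
      rw [show HopfRep.Comod.act k A V g u = rho k A V (toConv g) u from rfl, hc, LinearMap.smul_apply,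
        Module.End.one_apply]
      exact Submodule.smul_mem _ c hu
    · exact (Submodule.span_singleton_eq_bot).mp h
  rw [← finrank_top k V, ← htop, finrank_span_singleton hv]

end Groth.Agent.LieKolchin
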